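import Cfsg.Agent.Lib.Sporadic.ThPres.SubP.Tree0

set_option autoImplicit false
set_option maxRecDepth 20000

/-! Generated certificate: cosets of <a,b,c,d,e,s> in <abcdest> (tools/cosetbound/gen_pairs.py; generated; owner: helper9). -/

namespace CfsgLib.Sporadic.ThPres.SubP
open CfsgLib.Recog.SporBound (Q)

noncomputable def factTree : Q (ℕ) := ft0
noncomputable def nodeTree : Q (ℕ) := ct0
noncomputable def stepTree : Q (List ℕ) := st0
noncomputable def finalTree : Q (List ℕ) := et0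

/-- The certificate. -/
noncomputable def cert : CfsgLib.Sporadic.PairEnum.Cert where
  n := 3
  nd := 2
  nf := 21
  nl := 14
  kl := [0, 2, 4, 6, 8, 10, 12]
  facts := factTree
  cn := nodeTree
  steps := stepTree
  finals := finalTree
  rels := [[0, 0],
    [2, 2],
    [4, 4],
    [6, 6],
    [8, 8],
    [0, 2, 0, 2, 0, 2],
    [0, 8, 0, 8],
    [2, 4, 2, 4, 2, 4],
    [2, 6, 2, 6],
    [2, 8, 2, 8],
    [0, 7, 5, 7, 5, 7, 5, 7, 5],
    [4, 8, 4, 8],
    [6, 8, 6, 8, 6, 8],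
    [2, 4, 6, 8, 2, 4, 6, 8, 2, 4, 6, 8, 2, 4, 6, 8, 2, 4, 6, 8, 2, 4, 6, 8, 2, 4, 6, 8, 2, 4, 6, 8],
    [10, 10, 10, 10, 10, 10, 10],
    [11, 1, 10, 0],
    [11, 3, 10, 2],
    [11, 5, 10, 4],
    [10, 6, 10, 6],
    [9, 11, 8, 10, 11, 11, 11, 9, 10, 10, 10],
    [12, 12, 12],
    [13, 1, 12, 0],
    [13, 3, 12, 2],
    [13, 5, 12, 4],
    [13, 7, 12, 6],
    [13, 9, 12, 8],
    [13, 10, 12, 11, 11]]
  subs := [[0],
    [2],
    [4],
    [6],
    [8],
    [10]]

/-- Traced words with their chains. -/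
noncomputable def closers : List (List ℕ × ℕ) :=
  []

end CfsgLib.Sporadic.ThPres.SubP
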