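import Cfsg.Agent.Lib.Sporadic.PairEnum.Sound

set_option autoImplicit false
set_option maxRecDepth 20000

/-! Generated certificate: cosets of <a,b,c,d,e,s> in <abcdest> (tools/cosetbound/gen_pairs.py; generated; owner: helper9). -/

namespace CfsgLib.Sporadic.ThPres.SubP
open CfsgLib.Recog.SporBound (Q)

noncomputable def ft0 : Q (ℕ) := (.leaf 0x100001a0000200002a00002000029000020000270000200002500002000023000020000210000100002c00001000018000010000160000100001400001000012000010000100000000000a00000000008000000000060000000000400000000002000000000000000000002d0000000001c)
noncomputable def ct0 : Q (ℕ) := (.leaf 0x20000100000)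
noncomputable def st0 : Q (List ℕ) := (.leaf [69, 70, 71, 72, 73, 74, 0x2000000000000003000010000000015, 0x3000000000000003000010000000016, 0x4000000000000003000010000000017, 0x5000000000000003000010000000018, 0x6000000000000003000010000000019, 0x10000000002000020000000014, 0x100002000010000000003000020000200015, 0x100003000010000000003000020000200016, 0x100004000010000000003000020000200017, 0x100005000010000000003000020000200018, 0x100006000010000000003000020000200019, 0x1000070000700001000000000400002000020001a, 0xd0000d0001300013000010000300002000030001a])
noncomputable def et0 : Q (List ℕ) := (.leaf [0x20000100000, 0x30000100000, 0x40000100000, 0x50000100000, 0x60000100000, 0x70000100000, 0x100001, 0x80000100001, 0x90000100001, 0xa0000100001, 0xb0000100001, 0xc0000100001, 0x140000100001, 0xd0000100002, 0xe0000100002, 0xf0000100002, 0x100000100002, 0x110000100002, 0x120000100002, 0x130000100002, 0x10000100000])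

end CfsgLib.Sporadic.ThPres.SubP
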